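import Mathlib

/-!
The generalized Thompson transfer lemma (element-order version).
-/

set_option autoImplicit false

namespace Cfsg.Agent.Lib.InvolChar.TransferTwo

variable {G : Type*} [Group G]

/-- **Generalized Thompson transfer**.  Let `Q` have index two in a Sylow 2-subgroup `P` such that every
element of `P` outside `Q` has order greater than `2^(n-1)`.  There is a normal subgroup `K` of index
dividing two which excludes every element of `P` of order `2^n` that has no conjugate in `Q`. -/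
theorem exists_ker_transfer [Finite G] (P : Sylow 2 G) (Q : Subgroup G) (hQP : Q ≤ (P : Subgroup G))
    (hQi : Q.relIndex (P : Subgroup G) = 2) (n : ℕ)
    (hord : ∀ y ∈ (P : Subgroup G), y ∉ Q → 2 ^ (n - 1) < orderOf y) :
    ∃ K : Subgroup G, K.Normal ∧ K.index ∣ 2 ∧
      ∀ u ∈ (P : Subgroup G), orderOf u = 2 ^ n → (∀ g : G, g * u * g⁻¹ ∉ Q) → u ∉ K := by
  classical
  let Q' : Subgroup (P : Subgroup G) := Q.subgroupOf (P : Subgroup G)
  have hQ'i : Q'.index = 2 := hQi
  have hn : Q'.Normal := Subgroup.normal_of_index_eq_two hQ'i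
  have hcard : Nat.card ((P : Subgroup G) ⧸ Q') = 2 := hQ'i
  have hcyc : IsCyclic ((P : Subgroup G) ⧸ Q') := isCyclic_of_prime_card hcard
  have hcomm : IsMulCommutative ((P : Subgroup G) ⧸ Q') := hcyc.isMulCommutative
  let _ : CommGroup ((P : Subgroup G) ⧸ Q') :=
    { (inferInstance : Group ((P : Subgroup G) ⧸ Q')) with
      mul_comm := mul_comm' }
  let ϕ : (P : Subgroup G) →* ((P : Subgroup G) ⧸ Q') := QuotientGroup.mk' Q'
  have hϕ1 : ∀ x : (P : Subgroup G), ϕ x = 1 ↔ (x : G) ∈ Q := by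
    intro x
    change ((x : (P : Subgroup G)⧸Q') = 1) ↔ _
    rw [QuotientGroup.eq_one_iff]
    exact Subgroup.mem_subgroupOf
  have hsq : ∀ c : (P : Subgroup G) ⧸ Q', c ^ 2 = 1 := by
    intro c
    have : c ^ Nat.card ((P : Subgroup G) ⧸ Q') = 1 := pow_card_eq_one'
    rwa [hcard] at this
  have htwo : ∀ a b : (P : Subgroup G) ⧸ Q', a ≠ 1 → b ≠ 1 → a = b := by
    intro a b ha hb
    by_contra hab
    have h3 : Nat.card ((P : Subgroup G) ⧸ Q') ≥ 3 := by
      have := Fintype.ofFinite ((P : Subgroup G) ⧸ Q')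
      rw [Nat.card_eq_fintype_card]
      have h4 : ({1, a, b} : Finset ((P : Subgroup G) ⧸ Q')).card = 3 := by
        rw [Finset.card_eq_three]
        exact ⟨1, a, b, ha.symm, hb.symm, hab, rfl⟩
      rw [← h4]
      exact Finset.card_le_univ _
    omega
  refine ⟨(MonoidHom.transfer ϕ).ker, inferInstance, ?_, ?_⟩
  · rw [Subgroup.index_ker]
    have := Subgroup.card_subgroup_dvd_card (MonoidHom.transfer ϕ).range
    rwa [hcard] at this
  intro u huP hu hconj huk
  have hfix : Fintype (Quotient (MulAction.orbitRel (Subgroup.zpowers u) (G ⧸ (P : Subgroup G)))) :=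
    Fintype.ofFinite _
  let c := ϕ ⟨u, huP⟩
  have hc : c ≠ 1 := fun hc => by
    have := (hϕ1 _).1 hc
    apply hconj 1
    simpa using this
  have hper : ∀ x : G ⧸ (P : Subgroup G), Function.minimalPeriod (u • ·) x ∣ 2 ^ n := by
    intro x
    apply Function.IsPeriodicPt.minimalPeriod_dvd
    change (u • ·)^[2 ^ n] x = x
    have h1 : ∀ k : ℕ, (u • ·)^[k] x = u ^ k • x := by
      intro k
      induction k with
      | zero => simp
      | succ k ih =>
        rw [Function.iterate_succ_apply', ih, pow_succ', mul_smul]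
    rw [h1, ← hu, pow_orderOf_eq_one, one_smul]
  have hfac : ∀ (g : G) (k : ℕ), k ∣ 2 ^ n → ∀ (hg : g⁻¹ * u ^ k * g ∈ (P : Subgroup G)),
      ϕ ⟨g⁻¹ * u ^ k * g, hg⟩ = c ^ k := by
    intro g k hk hg
    obtain ⟨j, hjn, rfl⟩ := (Nat.dvd_prime_pow Nat.prime_two).1 hk
    rcases Nat.eq_zero_or_pos j with rfl | hj
    · have h1 : ϕ ⟨g⁻¹ * u ^ 2 ^ 0 * g, hg⟩ ≠ 1 := by
        intro hone
        rw [hϕ1] at hone
        apply hconj g⁻¹
        simpa using hone
      have e : c ^ 2 ^ 0 = c := by simp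
      rw [e]
      exact htwo _ _ h1 hc
    · have hQmem : g⁻¹ * u ^ 2 ^ j * g ∈ Q := by
        by_contra hnot
        have h2 := hord _ hg hnot
        have h3 : orderOf (g⁻¹ * u ^ 2 ^ j * g) ∣ 2 ^ (n - j) := by
          apply orderOf_dvd_of_pow_eq_one
          have h4 : (g⁻¹ * u ^ 2 ^ j * g) ^ 2 ^ (n - j) = g⁻¹ * (u ^ 2 ^ j) ^ 2 ^ (n - j) * g := by
            have := map_pow (MulAut.conj g⁻¹) (u ^ 2 ^ j) (2 ^ (n - j))
            simp only [MulAut.conj_apply, inv_inv] at this
            exact this.symm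
          rw [h4, ← pow_mul, ← pow_add]
          have h5 : j + (n - j) = n := by omega
          rw [h5, ← hu, pow_orderOf_eq_one]
          group
        have h6 := Nat.le_of_dvd (by positivity) h3
        have h7 : 2 ^ (n - j) ≤ 2 ^ (n - 1) := Nat.pow_le_pow_right (by norm_num) (by omega)
        omega
      have h1 : ϕ ⟨g⁻¹ * u ^ 2 ^ j * g, hg⟩ = 1 := (hϕ1 _).2 hQmem
      rw [h1]
      obtain ⟨t, rfl⟩ : ∃ t, j = t + 1 := ⟨j - 1, by omega⟩
      rw [pow_succ', pow_mul, hsq, one_pow]
  have hV : MonoidHom.transfer ϕ u = c ^ (P : Subgroup G).index := by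
    rw [Subgroup.index_eq_sum_minimalPeriod (P : Subgroup G) u, ← Finset.prod_pow_eq_pow_sum,
      MonoidHom.transfer_eq_prod_quotient_orbitRel_zpowers_quot]
    apply Finset.prod_congr rfl
    intro q _
    exact hfac _ _ (hper _) _
  have hodd : Odd (P : Subgroup G).index := by
    rw [← Nat.not_even_iff_odd, even_iff_two_dvd]
    exact P.not_dvd_index
  have hVc : MonoidHom.transfer ϕ u = c := by
    rw [hV]
    obtain ⟨k, hk⟩ := hodd
    rw [hk, pow_succ, pow_mul, hsq, one_pow, one_mul]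
  rw [MonoidHom.mem_ker, hVc] at huk
  exact hc huk

end Cfsg.Agent.Lib.InvolChar.TransferTwo
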