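import Cfsg.Agent.Lib.GL2.SL2Classes

/-!
Elements of order four in `SL₂(F)`, `F` a finite field of odd order: all are conjugate, two of them
commute only if they agree up to sign, and only `±1` commutes with all of them.
-/

set_option autoImplicit false

namespace Cfsg.Agent.Lib.InvolChar.SL2Four

open Matrix Cfsg.Agent.Lib.GL2.SL2 Cfsg.Agent.Lib.GL2.SL2Classes

variable {F : Type*} [Field F]

/-- The element `-1` of `SL₂`. -/
def mone : SL2 F := ⟨-1, by simp [det_fin_two]⟩

/-- The standard element of order four. -/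
def J : SL2 F := comp 0

@[simp] lemma coe_mone : ((mone : SL2 F) : Matrix (Fin 2) (Fin 2) F) = -1 := rfl

lemma mone_00 : ((mone : SL2 F) : Matrix (Fin 2) (Fin 2) F) 0 0 = -1 := by simp [coe_mone]
lemma mone_01 : ((mone : SL2 F) : Matrix (Fin 2) (Fin 2) F) 0 1 = 0 := by simp [coe_mone]
lemma mone_10 : ((mone : SL2 F) : Matrix (Fin 2) (Fin 2) F) 1 0 = 0 := by simp [coe_mone]
lemma mone_11 : ((mone : SL2 F) : Matrix (Fin 2) (Fin 2) F) 1 1 = -1 := by simp [coe_mone]

lemma J_00 : ((J : SL2 F) : Matrix (Fin 2) (Fin 2) F) 0 0 = 0 := by simp [J]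
lemma J_01 : ((J : SL2 F) : Matrix (Fin 2) (Fin 2) F) 0 1 = -1 := by simp [J]
lemma J_10 : ((J : SL2 F) : Matrix (Fin 2) (Fin 2) F) 1 0 = 1 := by simp [J]
lemma J_11 : ((J : SL2 F) : Matrix (Fin 2) (Fin 2) F) 1 1 = 0 := by simp [J]

lemma two_ne_zero_of_odd [Fintype F] (hodd : Fintype.card F % 2 = 1) : (2 : F) ≠ 0 := by
  intro h
  have : ringChar F = 2 := by
    have hdvd := (CharP.cast_eq_zero_iff F (ringChar F) 2).mp (by exact_mod_cast h)
    have hp := CharP.char_is_prime_or_zero F (ringChar F)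
    rcases hp with hp | hp
    · exact (Nat.prime_dvd_prime_iff_eq hp Nat.prime_two).mp hdvd
    · rw [hp] at hdvd; simp at hdvd
  have h3 := FiniteField.even_card_of_char_two this
  omega

lemma mone_ne_one [Fintype F] (hodd : Fintype.card F % 2 = 1) : (mone : SL2 F) ≠ 1 := by
  intro h
  have h1 : ((mone : SL2 F) : Matrix (Fin 2) (Fin 2) F) 0 0 = ((1 : SL2 F) : Matrix (Fin 2) (Fin 2) F) 0 0 := by
    rw [h]
  rw [mone_00] at h1
  simp at h1
  have h2 : (2 : F) = 0 := by linear_combination -h1
  exact two_ne_zero_of_odd hodd h2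

lemma mone_mul_mone : (mone : SL2 F) * mone = 1 := by
  apply Subtype.ext
  change (-1 : Matrix (Fin 2) (Fin 2) F) * (-1) = 1
  simp

lemma mone_mul (g : SL2 F) : mone * g = g * mone := by
  apply Subtype.ext
  change (-1 : Matrix (Fin 2) (Fin 2) F) * (g : Matrix (Fin 2) (Fin 2) F) = (g : Matrix (Fin 2) (Fin 2) F) * (-1)
  simp

lemma J_sq : (J : SL2 F) * J = mone := by
  apply ext_sl <;> simp [mul_entries, J_00, J_01, J_10, J_11, mone_00, mone_01, mone_10, mone_11]

/-- `g² = -1` forces trace zero. -/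
lemma tr_eq_zero [Fintype F] (hodd : Fintype.card F % 2 = 1) {g : SL2 F} (h : g * g = mone) :
    tr g = 0 := by
  have h2 : (g : Matrix (Fin 2) (Fin 2) F) * g = -1 := congrArg Subtype.val h
  have h3 := sq_eq_tr g
  rw [h2] at h3
  have h4 : tr g • (g : Matrix (Fin 2) (Fin 2) F) = 0 := by
    have : tr g • (g : Matrix (Fin 2) (Fin 2) F) = (-1 : Matrix (Fin 2) (Fin 2) F) + 1 := by
      rw [h3]; abel
    rw [this]; simp
  rw [smul_eq_zero] at h4
  rcases h4 with h4 | h4
  · exact h4
  · exfalso
    have := congrArg Matrix.det h4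
    rw [g.2] at this
    simp at this

lemma sq_of_tr_eq_zero {g : SL2 F} (h : tr g = 0) : g * g = mone := by
  apply Subtype.ext
  change (g : Matrix (Fin 2) (Fin 2) F) * g = -1
  rw [sq_eq_tr, h]
  simp

/-- All elements with square `-1` are conjugate to `J`. -/
lemma exists_conj_J [Fintype F] (hodd : Fintype.card F % 2 = 1) {g : SL2 F} (h : g * g = mone) :
    ∃ c : SL2 F, c * J * c⁻¹ = g := by
  have h0 := tr_eq_zero hodd h
  have h1 : (tr g) ^ 2 ≠ 4 := by
    rw [h0]
    intro h2
    have h3 : (2 : F) * 2 = 0 := by linear_combination -h2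
    exact (mul_ne_zero (two_ne_zero_of_odd hodd) (two_ne_zero_of_odd hodd)) h3
  have h2 := isConj_comp hodd g h1
  rw [h0] at h2
  rw [isConj_comm, isConj_iff] at h2
  exact h2

/-- An element with square `-1` commuting with `J` is `±J`. -/
lemma eq_of_comm_J [Fintype F] (hodd : Fintype.card F % 2 = 1) {g : SL2 F} (h : g * g = mone)
    (hc : g * J = J * g) : g = J ∨ g = mone * J := by
  have h0 := tr_eq_zero hodd h
  have hd := det_eq g
  have e00 := congrFun (congrFun (congrArg Subtype.val hc) 0) 0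
  have e01 := congrFun (congrFun (congrArg Subtype.val hc) 0) 1
  change ((g * J : SL2 F) : Matrix (Fin 2) (Fin 2) F) 0 0 = ((J * g : SL2 F) : Matrix (Fin 2) (Fin 2) F) 0 0 at e00
  change ((g * J : SL2 F) : Matrix (Fin 2) (Fin 2) F) 0 1 = ((J * g : SL2 F) : Matrix (Fin 2) (Fin 2) F) 0 1 at e01
  simp only [mul_entries, J_00, J_01, J_10, J_11] at e00 e01
  rw [tr] at h0
  set a := (g : Matrix (Fin 2) (Fin 2) F) 0 0
  set b := (g : Matrix (Fin 2) (Fin 2) F) 0 1
  set c := (g : Matrix (Fin 2) (Fin 2) F) 1 0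
  set d := (g : Matrix (Fin 2) (Fin 2) F) 1 1
  have h2 := two_ne_zero_of_odd hodd
  have hbc : c = -b := by linear_combination e00
  have had : d = a := by linear_combination e01
  have ha : a = 0 := by
    have : (2 : F) * a = 0 := by rw [had] at h0; linear_combination h0
    exact (mul_eq_zero.mp this).resolve_left h2
  have hd0 : d = 0 := by rw [had, ha]
  have hb2 : (b - 1) * (b + 1) = 0 := by
    rw [hbc, ha, hd0] at hd
    linear_combination hd
  rcases mul_eq_zero.mp hb2 with h5 | h5
  · right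
    have hb : b = 1 := by linear_combination h5
    apply ext_sl <;> simp only [mul_entries, J_00, J_01, J_10, J_11, mone_00, mone_01, mone_10, mone_11]
    · change a = _; rw [ha]; ring
    · change b = _; rw [hb]; ring
    · change c = _; rw [hbc, hb]; ring
    · change d = _; rw [hd0]; ring
  · left
    have hb : b = -1 := by linear_combination h5
    apply ext_sl <;> simp only [J_00, J_01, J_10, J_11]
    · exact ha
    · exact hb
    · change c = _; rw [hbc, hb]; ring
    · exact hd0

/-- `-1` is a sum of two squares. -/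
lemma exists_sum_sq [Fintype F] (hodd : Fintype.card F % 2 = 1) :
    ∃ a b : F, a ^ 2 + b ^ 2 = -1 := by
  have hf : (Polynomial.X ^ 2 + Polynomial.C (1 : F) : Polynomial F).degree = 2 := by
    exact_mod_cast Polynomial.degree_X_pow_add_C (by norm_num : 0 < 2) (1 : F)
  have hg : (Polynomial.X ^ 2 : Polynomial F).degree = 2 := by
    simp
  obtain ⟨a, b, hab⟩ := FiniteField.exists_root_sum_quadratic hf hg hodd
  refine ⟨a, b, ?_⟩
  simp at hab
  linear_combination hab

/-- An element with square `-1` not commuting with `J`. -/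
def R (a b : F) (h : a ^ 2 + b ^ 2 = -1) : SL2 F :=
  ⟨!![a, b; b, -a], by
    simp only [det_fin_two_of]
    linear_combination -h⟩

lemma R_00 (a b : F) (h : a ^ 2 + b ^ 2 = -1) : ((R a b h : SL2 F) : Matrix (Fin 2) (Fin 2) F) 0 0 = a := by
  simp [R]
lemma R_01 (a b : F) (h : a ^ 2 + b ^ 2 = -1) : ((R a b h : SL2 F) : Matrix (Fin 2) (Fin 2) F) 0 1 = b := by
  simp [R]
lemma R_10 (a b : F) (h : a ^ 2 + b ^ 2 = -1) : ((R a b h : SL2 F) : Matrix (Fin 2) (Fin 2) F) 1 0 = b := by
  simp [R]
lemma R_11 (a b : F) (h : a ^ 2 + b ^ 2 = -1) : ((R a b h : SL2 F) : Matrix (Fin 2) (Fin 2) F) 1 1 = -a := by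
  simp [R]

lemma R_sq (a b : F) (h : a ^ 2 + b ^ 2 = -1) : R a b h * R a b h = mone := by
  apply ext_sl <;> simp only [mul_entries, R_00, R_01, R_10, R_11, mone_00, mone_01, mone_10, mone_11]
  · linear_combination h
  · ring
  · ring
  · linear_combination h

/-- Elements commuting with both `J` and a suitable `R` are `±1`. -/
lemma eq_of_comm_J_R [Fintype F] (hodd : Fintype.card F % 2 = 1) (a b : F)
    (h : a ^ 2 + b ^ 2 = -1) {l : SL2 F} (hJ : l * J = J * l) (hR : l * R a b h = R a b h * l) :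
    l = 1 ∨ l = mone := by
  have hd := det_eq l
  have e00 := congrFun (congrFun (congrArg Subtype.val hJ) 0) 0
  have e01 := congrFun (congrFun (congrArg Subtype.val hJ) 0) 1
  have f00 := congrFun (congrFun (congrArg Subtype.val hR) 0) 0
  have f01 := congrFun (congrFun (congrArg Subtype.val hR) 0) 1
  change ((l * J : SL2 F) : Matrix (Fin 2) (Fin 2) F) 0 0 = ((J * l : SL2 F) : Matrix (Fin 2) (Fin 2) F) 0 0 at e00
  change ((l * J : SL2 F) : Matrix (Fin 2) (Fin 2) F) 0 1 = ((J * l : SL2 F) : Matrix (Fin 2) (Fin 2) F) 0 1 at e01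
  change ((l * R a b h : SL2 F) : Matrix (Fin 2) (Fin 2) F) 0 0 = ((R a b h * l : SL2 F) : Matrix (Fin 2) (Fin 2) F) 0 0 at f00
  change ((l * R a b h : SL2 F) : Matrix (Fin 2) (Fin 2) F) 0 1 = ((R a b h * l : SL2 F) : Matrix (Fin 2) (Fin 2) F) 0 1 at f01
  simp only [mul_entries, J_00, J_01, J_10, J_11, R_00, R_01, R_10, R_11] at e00 e01 f00 f01
  set x := (l : Matrix (Fin 2) (Fin 2) F) 0 0
  set y := (l : Matrix (Fin 2) (Fin 2) F) 0 1
  set u := (l : Matrix (Fin 2) (Fin 2) F) 1 0
  set v := (l : Matrix (Fin 2) (Fin 2) F) 1 1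
  have h2 := two_ne_zero_of_odd hodd
  have hu : u = -y := by linear_combination e00
  have hv : v = x := by linear_combination e01
  rw [hu] at f00
  rw [hv] at f01
  have hyb : y * b = 0 := by
    have : (2 : F) * (y * b) = 0 := by linear_combination f00
    exact (mul_eq_zero.mp this).resolve_left h2
  have hya : y * a = 0 := by
    have : (2 : F) * (y * a) = 0 := by linear_combination -f01
    exact (mul_eq_zero.mp this).resolve_left h2
  have hy : y = 0 := by
    have h3 : y * (a ^ 2 + b ^ 2) = 0 := by linear_combination a * hya + b * hyb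
    rw [h] at h3
    linear_combination -h3
  have hx2 : (x - 1) * (x + 1) = 0 := by
    rw [hu, hv, hy] at hd
    linear_combination hd
  rcases mul_eq_zero.mp hx2 with h5 | h5
  · left
    have hx : x = 1 := by linear_combination h5
    apply ext_sl
    · change x = _; rw [hx]; simp
    · change y = _; rw [hy]; simp
    · change u = _; rw [hu, hy]; simp
    · change v = _; rw [hv, hx]; simp
  · right
    have hx : x = -1 := by linear_combination h5
    apply ext_sl <;> simp only [mone_00, mone_01, mone_10, mone_11]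
    · exact hx
    · exact hy
    · change u = _; rw [hu, hy]; simp
    · change v = _; rw [hv, hx]

/-- Involutions of `SL₂`. -/
lemma eq_of_sq_eq_one [Fintype F] (hodd : Fintype.card F % 2 = 1) {g : SL2 F} (h : g * g = 1) :
    g = 1 ∨ g = mone := by
  have hd := det_eq g
  have h2 := two_ne_zero_of_odd hodd
  have e00 := congrFun (congrFun (congrArg Subtype.val h) 0) 0
  have e01 := congrFun (congrFun (congrArg Subtype.val h) 0) 1
  have e10 := congrFun (congrFun (congrArg Subtype.val h) 1) 0
  have e11 := congrFun (congrFun (congrArg Subtype.val h) 1) 1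
  change ((g * g : SL2 F) : Matrix (Fin 2) (Fin 2) F) 0 0 = ((1 : SL2 F) : Matrix (Fin 2) (Fin 2) F) 0 0 at e00
  change ((g * g : SL2 F) : Matrix (Fin 2) (Fin 2) F) 0 1 = ((1 : SL2 F) : Matrix (Fin 2) (Fin 2) F) 0 1 at e01
  change ((g * g : SL2 F) : Matrix (Fin 2) (Fin 2) F) 1 0 = ((1 : SL2 F) : Matrix (Fin 2) (Fin 2) F) 1 0 at e10
  change ((g * g : SL2 F) : Matrix (Fin 2) (Fin 2) F) 1 1 = ((1 : SL2 F) : Matrix (Fin 2) (Fin 2) F) 1 1 at e11
  simp only [mul_entries] at e00 e01 e10 e11
  simp at e00 e01 e10 e11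
  set a := (g : Matrix (Fin 2) (Fin 2) F) 0 0
  set b := (g : Matrix (Fin 2) (Fin 2) F) 0 1
  set c := (g : Matrix (Fin 2) (Fin 2) F) 1 0
  set d := (g : Matrix (Fin 2) (Fin 2) F) 1 1
  -- `g² = t g - 1 = 1` so `t g = 2`
  have h3 : (a + d) * b = 0 := by linear_combination e01
  have h4 : (a + d) * c = 0 := by linear_combination e10
  have h5 : (a + d) * a = 2 := by linear_combination e00 + hd
  have h6 : (a + d) * d = 2 := by linear_combination e11 + hd
  have ht : a + d ≠ 0 := by
    intro h0
    rw [h0, zero_mul] at h5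
    exact h2 h5.symm
  have hb : b = 0 := (mul_eq_zero.mp h3).resolve_left ht
  have hc : c = 0 := (mul_eq_zero.mp h4).resolve_left ht
  have had : a = d := mul_left_cancel₀ ht (h5.trans h6.symm)
  have ha2 : (a - 1) * (a + 1) = 0 := by
    rw [hb, ← had] at hd
    linear_combination hd
  rcases mul_eq_zero.mp ha2 with h7 | h7
  · left
    have ha : a = 1 := by linear_combination h7
    apply ext_sl
    · change a = _; rw [ha]; simp
    · change b = _; rw [hb]; simp
    · change c = _; rw [hc]; simp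
    · change d = _; rw [← had, ha]; simp
  · right
    have ha : a = -1 := by linear_combination h7
    apply ext_sl <;> simp only [mone_00, mone_01, mone_10, mone_11]
    · exact ha
    · exact hb
    · exact hc
    · change d = _; rw [← had, ha]

end Cfsg.Agent.Lib.InvolChar.SL2Four
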