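import Cfsg.Agent.Lib.InvolChar.SL2Four

/-!
A subgroup `L ≅ SL₂(F)`, `F` finite of odd order, with central involution `j`, in an ambient group.
-/

set_option autoImplicit false

namespace Cfsg.Agent.Lib.InvolChar.SL2Pair

open Cfsg.Agent.Lib.GL2.SL2 Cfsg.Agent.Lib.GL2.SL2Classes Cfsg.Agent.Lib.InvolChar.SL2Four

variable {G : Type*} [Group G] {F : Type*} [Field F] [Fintype F]

/-- `L ≅ SL₂(F)` with central involution `j`. -/
structure Sys (L : Subgroup G) (e : L ≃* SL2 F) (j : G) : Prop where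
  hodd : Fintype.card F % 2 = 1
  hj : j ∈ L
  hjm : e ⟨j, hj⟩ = mone

theorem Sys.mk' {L : Subgroup G} (e : L ≃* SL2 F) {j : G} (hodd : Fintype.card F % 2 = 1)
    (hj : j ∈ L) (hj2 : orderOf j = 2) : Sys L e j := by
  refine ⟨hodd, hj, ?_⟩
  have h1 : (⟨j, hj⟩ : L) * ⟨j, hj⟩ = 1 := by
    apply Subtype.ext
    change j * j = 1
    rw [← pow_two, ← hj2]
    exact pow_orderOf_eq_one j
  have h2 : e ⟨j, hj⟩ * e ⟨j, hj⟩ = 1 := by rw [← map_mul, h1, map_one]
  rcases eq_of_sq_eq_one hodd h2 with h3 | h3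
  · exfalso
    have h4 : (⟨j, hj⟩ : L) = 1 := by
      rwa [map_eq_one_iff e e.injective] at h3
    have h5 : j = 1 := congrArg Subtype.val h4
    rw [h5, orderOf_one] at hj2
    omega
  · exact h3

variable {L : Subgroup G} {e : L ≃* SL2 F} {j : G}

theorem Sys.e_sq (h : Sys L e j) {t : G} (ht : t ∈ L) (ht2 : t * t = j) :
    e ⟨t, ht⟩ * e ⟨t, ht⟩ = mone := by
  rw [← map_mul, ← h.hjm]
  congr 1
  exact Subtype.ext ht2

theorem Sys.of_e_sq (h : Sys L e j) {t : L} (ht : e t * e t = mone) : (t : G) * t = j := by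
  rw [← map_mul, ← h.hjm] at ht
  have := e.injective ht
  exact congrArg Subtype.val this

theorem Sys.inv_eq (h : Sys L e j) {t : G} (ht : t ∈ L) (ht2 : t * t = 1) : t = 1 ∨ t = j := by
  have h1 : e ⟨t, ht⟩ * e ⟨t, ht⟩ = 1 := by
    rw [← map_mul]
    rw [map_eq_one_iff e e.injective]
    exact Subtype.ext ht2
  rcases eq_of_sq_eq_one h.hodd h1 with h2 | h2
  · left
    rw [map_eq_one_iff e e.injective] at h2
    exact congrArg Subtype.val h2
  · right
    rw [← h.hjm] at h2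
    exact congrArg Subtype.val (e.injective h2)

theorem Sys.exists_four (h : Sys L e j) : ∃ t ∈ L, t * t = j := by
  refine ⟨(e.symm J).1, (e.symm J).2, ?_⟩
  apply h.of_e_sq
  simp [J_sq]

theorem Sys.four_conj (h : Sys L e j) {t s : G} (ht : t ∈ L) (hs : s ∈ L) (ht2 : t * t = j)
    (hs2 : s * s = j) : ∃ c ∈ L, c * t * c⁻¹ = s := by
  obtain ⟨c₁, hc₁⟩ := exists_conj_J h.hodd (h.e_sq ht ht2)
  obtain ⟨c₂, hc₂⟩ := exists_conj_J h.hodd (h.e_sq hs hs2)
  refine ⟨(e.symm (c₂ * c₁⁻¹)).1, (e.symm (c₂ * c₁⁻¹)).2, ?_⟩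
  have h1 : e ((e.symm (c₂ * c₁⁻¹)) * ⟨t, ht⟩ * (e.symm (c₂ * c₁⁻¹))⁻¹) = e ⟨s, hs⟩ := by
    rw [map_mul, map_mul, map_inv, MulEquiv.apply_symm_apply, ← hc₁, ← hc₂]
    group
  exact congrArg Subtype.val (e.injective h1)

/-- Two commuting elements with square `j` agree up to `j`. -/
theorem Sys.comm_eq (h : Sys L e j) {t s : G} (ht : t ∈ L) (hs : s ∈ L) (ht2 : t * t = j)
    (hs2 : s * s = j) (hc : t * s = s * t) : s = t ∨ s = j * t := by
  obtain ⟨c, hc₁⟩ := exists_conj_J h.hodd (h.e_sq ht ht2)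
  set s' : SL2 F := c⁻¹ * e ⟨s, hs⟩ * c with hs'
  have h1 : s' * s' = mone := by
    have h3 := h.e_sq hs hs2
    calc s' * s' = c⁻¹ * (e ⟨s, hs⟩ * e ⟨s, hs⟩) * c := by rw [hs']; group
      _ = c⁻¹ * mone * c := by rw [h3]
      _ = c⁻¹ * (mone * c) := by group
      _ = c⁻¹ * (c * mone) := by rw [mone_mul]
      _ = mone := by group
  have hcomm : e ⟨t, ht⟩ * e ⟨s, hs⟩ = e ⟨s, hs⟩ * e ⟨t, ht⟩ := by
    rw [← map_mul, ← map_mul]
    congr 1
    exact Subtype.ext hc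
  have h2 : s' * J = J * s' := by
    have h3 : J = c⁻¹ * e ⟨t, ht⟩ * c := by rw [← hc₁]; group
    rw [hs', h3]
    calc c⁻¹ * e ⟨s, hs⟩ * c * (c⁻¹ * e ⟨t, ht⟩ * c) = c⁻¹ * (e ⟨s, hs⟩ * e ⟨t, ht⟩) * c := by group
      _ = c⁻¹ * (e ⟨t, ht⟩ * e ⟨s, hs⟩) * c := by rw [hcomm]
      _ = c⁻¹ * e ⟨t, ht⟩ * c * (c⁻¹ * e ⟨s, hs⟩ * c) := by group
  rcases eq_of_comm_J h.hodd h1 h2 with h3 | h3
  · left
    have h4 : e ⟨s, hs⟩ = e ⟨t, ht⟩ := by
      rw [← hc₁, ← h3, hs']; group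
    exact congrArg Subtype.val (e.injective h4)
  · right
    have h4 : e ⟨s, hs⟩ = e (⟨j, h.hj⟩ * ⟨t, ht⟩) := by
      rw [map_mul, h.hjm, ← hc₁]
      have h5 : e ⟨s, hs⟩ = c * s' * c⁻¹ := by rw [hs']; group
      rw [h5, h3]
      calc c * (mone * J) * c⁻¹ = (c * mone) * J * c⁻¹ := by group
        _ = (mone * c) * J * c⁻¹ := by rw [mone_mul]
        _ = mone * (c * J * c⁻¹) := by group
    exact congrArg Subtype.val (e.injective h4)

/-- For each element with square `j` there is another one not commuting with it. -/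
theorem Sys.exists_noncomm (h : Sys L e j) {t : G} (ht : t ∈ L) (ht2 : t * t = j) :
    ∃ r ∈ L, r * r = j ∧ r * t ≠ t * r := by
  obtain ⟨c, hc₁⟩ := exists_conj_J h.hodd (h.e_sq ht ht2)
  obtain ⟨a, b, hab⟩ := exists_sum_sq (F := F) h.hodd
  set rr : SL2 F := c * R a b hab * c⁻¹ with hr
  have hr2 : rr * rr = mone := by
    calc rr * rr = c * (R a b hab * R a b hab) * c⁻¹ := by rw [hr]; group
      _ = c * mone * c⁻¹ := by rw [R_sq]
      _ = mone * c * c⁻¹ := by rw [mone_mul]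
      _ = mone := by group
  clear_value rr
  refine ⟨(e.symm rr).1, (e.symm rr).2, h.of_e_sq (by simpa using hr2), ?_⟩
  intro hc
  have h1 : e.symm rr * ⟨t, ht⟩ = ⟨t, ht⟩ * e.symm rr := Subtype.ext hc
  have h2 := congrArg e h1
  rw [map_mul, map_mul, MulEquiv.apply_symm_apply, ← hc₁, hr] at h2
  have h3 : R a b hab * J = J * R a b hab := by
    have h4 : c * (R a b hab * J) * c⁻¹ = c * (J * R a b hab) * c⁻¹ := by
      calc c * (R a b hab * J) * c⁻¹ = c * R a b hab * c⁻¹ * (c * J * c⁻¹) := by group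
        _ = c * J * c⁻¹ * (c * R a b hab * c⁻¹) := h2
        _ = c * (J * R a b hab) * c⁻¹ := by group
    exact mul_left_cancel (mul_right_cancel h4)
  have e00 := congrFun (congrFun (congrArg Subtype.val h3) 0) 0
  have e01 := congrFun (congrFun (congrArg Subtype.val h3) 0) 1
  change ((R a b hab * J : SL2 F) : Matrix (Fin 2) (Fin 2) F) 0 0 = ((J * R a b hab : SL2 F) : Matrix (Fin 2) (Fin 2) F) 0 0 at e00
  change ((R a b hab * J : SL2 F) : Matrix (Fin 2) (Fin 2) F) 0 1 = ((J * R a b hab : SL2 F) : Matrix (Fin 2) (Fin 2) F) 0 1 at e01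
  simp only [mul_entries, J_00, J_01, J_10, J_11, R_00, R_01, R_10, R_11] at e00 e01
  have h2' := two_ne_zero_of_odd h.hodd
  have hb : b = 0 := by
    have : (2 : F) * b = 0 := by linear_combination e00
    exact (mul_eq_zero.mp this).resolve_left h2'
  have ha : a = 0 := by
    have : (2 : F) * a = 0 := by linear_combination -e01
    exact (mul_eq_zero.mp this).resolve_left h2'
  rw [ha, hb] at hab
  have : (1 : F) = 0 := by linear_combination hab
  exact one_ne_zero this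

/-- Only `1, j` commute with all elements with square `j`. -/
theorem Sys.center (h : Sys L e j) {x : G} (hx : x ∈ L)
    (hc : ∀ t ∈ L, t * t = j → x * t = t * x) : x = 1 ∨ x = j := by
  obtain ⟨a, b, hab⟩ := exists_sum_sq (F := F) h.hodd
  have key : ∀ g : SL2 F, g * g = mone → e ⟨x, hx⟩ * g = g * e ⟨x, hx⟩ := by
    intro g hg
    have h1 := hc (e.symm g).1 (e.symm g).2 (h.of_e_sq (by simpa using hg))
    have h2 : (⟨x, hx⟩ : L) * e.symm g = e.symm g * ⟨x, hx⟩ := Subtype.ext h1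
    have h3 := congrArg e h2
    simpa using h3
  rcases eq_of_comm_J_R h.hodd a b hab (key _ J_sq) (key _ (R_sq a b hab)) with h1 | h1
  · left
    rw [map_eq_one_iff e e.injective] at h1
    exact congrArg Subtype.val h1
  · right
    rw [← h.hjm] at h1
    exact congrArg Subtype.val (e.injective h1)

end Cfsg.Agent.Lib.InvolChar.SL2Pair
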